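import Cfsg.Agent.Lib.InvChar.SporData.HN.CB.F0

/-! The assembled certificate. -/

set_option autoImplicit false
set_option maxRecDepth 100000

namespace CfsgLib.InvChar.SporHN.CB

open CfsgLib.InvChar.Coset CfsgLib.KnownA

theorem facts_ok : ∀ j < 2, cert.chkRun 128 (j * 128) (cert.just.get j) = true := by
  intro j hj
  rcases Nat.lt_or_ge j 2 with h0 | h0
  · obtain ⟨t, rfl⟩ : ∃ t, j = 0 + t := ⟨j - 0, by omega⟩
    exact cert.chkBlocks_get 2 0 chk_facts0 t (by omega)
  omega

theorem chk_rows : cert.chkRows table live fin 120 0 = true := by decide +kernel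

theorem covered : CosetInv.Covered cert table live fin where
  hn := by decide +kernel
  ivlt := by decide +kernel
  facts := ⟨2, by decide +kernel, facts_ok⟩
  rows := fun i hi => cert.chkRows_get 120 0 chk_rows i (Nat.zero_le _) (lt_of_lt_of_le hi (Nat.le_add_left _ _))
  root := by decide +kernel

end CfsgLib.InvChar.SporHN.CB
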